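import Cfsg.Agent.H506.DPL.Defs
import Cfsg.Agent.H199.DPL.Main
import Cfsg.Agent.H125.DPi.Sem

/-!
# S4247, row `[L]`, `StCen`: the semilinear maps inducing elements which centralise `P`
-/

set_option autoImplicit false
set_option linter.unusedSectionVars false

namespace Cfsg.Agent.H990.DPL

open Matrix Module Cfsg Cfsg.Agent.H167.OP Cfsg.Agent.H170.HL Cfsg.Agent.H556.HallRowAbs Cfsg.Agent.H553.RV
open Cfsg.Agent.H817.DPi Cfsg.Agent.H506.DPL

section
variable {F : Type} [Field F] {n : ℕ}

/-- if `α` fixes the image of `s`, then `k s = μ s k` -/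
theorem conj_scalar {k : Equiv.Perm (Fin n → F)} (hk : k ∈ GamL F n)
    {α : MulAut (ProjectiveSpecialLinearGroup (Fin n) F)} (hi : Ind k α) {s : SpecialLinearGroup (Fin n) F}
    (hα : α (QuotientGroup.mk s : ProjectiveSpecialLinearGroup (Fin n) F) = QuotientGroup.mk s) :
    ∃ μ : F, μ ^ n = 1 ∧ ∀ v, k (s.1 *ᵥ v) = μ • (s.1 *ᵥ (k v)) := by
  have h1 : ∀ v, k (s.1 *ᵥ v) = (Cfsg.Agent.H125.DPi.cjS ⟨k, hk⟩ s).1 *ᵥ (k v) :=
    fun v => (Cfsg.Agent.H125.DPi.cjS_apply ⟨k, hk⟩ s v).symm
  generalize Cfsg.Agent.H125.DPi.cjS ⟨k, hk⟩ s = s' at h1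
  have h2 := hi s s' h1
  rw [hα] at h2
  have h3 : s⁻¹ * s' ∈ Subgroup.center (SpecialLinearGroup (Fin n) F) := QuotientGroup.eq.1 h2
  rw [Matrix.SpecialLinearGroup.mem_center_iff] at h3
  obtain ⟨r, hr, h4⟩ := h3
  rw [Fintype.card_fin] at hr
  refine ⟨r, hr, fun v => ?_⟩
  have h5 : s'.1 = s.1 * (Matrix.scalar (Fin n) r) := by
    rw [h4, ← Matrix.SpecialLinearGroup.coe_mul, mul_inv_cancel_left]
  rw [h1, h5, ← mulVec_mulVec]
  have h6 : (Matrix.scalar (Fin n) r) *ᵥ (k v) = r • (k v) := by
    rw [Matrix.scalar_apply, ← Matrix.smul_one_eq_diagonal, smul_mulVec, one_mulVec]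
  rw [h6, mulVec_smul]

theorem pow_scalar {V : Type*} [AddCommGroup V] [Module F V] {k : V → V} {A : V →ₗ[F] V} {μ : F}
    (h : ∀ v, k (A v) = μ • A (k v)) (j : ℕ) (v : V) : k ((A ^ j) v) = μ ^ j • (A ^ j) (k v) := by
  induction j generalizing v with
  | zero => simp
  | succ j ih =>
    rw [pow_succ', Module.End.mul_apply, h, ih, map_smul, smul_smul, ← pow_succ', Module.End.mul_apply]

theorem exists_notMem {S : Finset (Fin n)} (h : S.card < n) : ∃ j, j ∉ S := by
  by_contra hcon
  push Not at hcon
  have h1 : S = Finset.univ := Finset.eq_univ_iff_forall.2 hcon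
  rw [h1, Finset.card_univ, Fintype.card_fin] at h
  exact lt_irrefl _ h

/-- the diagonal action in coordinates -/
theorem repr_diag {V : Type*} [AddCommGroup V] [Module F V] (b : Basis (Fin n) F V) {A : V →ₗ[F] V}
    {d : Fin n → F} (h : ∀ l, A (b l) = d l • b l) (u : V) (s : Fin n) :
    b.repr (A u) s = d s * b.repr u s := by
  have h1 : (b.coord s) ∘ₗ A = d s • b.coord s := by
    apply b.ext
    intro l
    rw [LinearMap.comp_apply, LinearMap.smul_apply, h, Basis.coord_apply, Basis.coord_apply, map_smul,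
      Finsupp.smul_apply, Basis.repr_self, Finsupp.single_apply, smul_eq_mul, smul_eq_mul]
    split_ifs with hl
    · rw [hl]
    · rw [mul_zero, mul_zero]
  have h2 := LinearMap.congr_fun h1 u
  rw [LinearMap.comp_apply, LinearMap.smul_apply, Basis.coord_apply, Basis.coord_apply, smul_eq_mul] at h2
  exact h2

theorem sq_ne_one {c : F} {t : ℕ} (ht : t.Prime) (ht2 : t ≠ 2) (hc : c ≠ 1) (hct : c ^ t = 1) : c * c ≠ 1 := by
  intro h
  apply hc
  obtain ⟨m, hm⟩ := ht.odd_of_ne_two ht2
  rw [hm, pow_succ, pow_mul, pow_two, h, one_pow, one_mul] at hct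
  exact hct

/-- the frame lines are fixed -/
theorem frame_fixed {V : Type*} [AddCommGroup V] [Module F V] {k : V → V} (hinj : Function.Injective k)
    (hadd : ∀ v w, k (v + w) = k v + k w) {σ : F ≃+* F} (hsm : ∀ (c : F) v, k (c • v) = σ c • k v)
    (b : Basis (Fin n) F V) (hn : 3 ≤ n) {t : ℕ} (ht : t.Prime) (ht2 : t ≠ 2) (hexc : ¬ (n = 3 ∧ t = 3))
    {c : Fin n → F} (hc1 : ∀ i, c i ≠ 1) (hct : ∀ i, c i ^ t = 1)
    (hz : ∀ i j, i ≠ j → ∃ (A : V →ₗ[F] V) (μ : F), A (b i) = c i • b i ∧ A (b j) = (c i)⁻¹ • b j ∧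
      (∀ l, l ≠ i → l ≠ j → A (b l) = b l) ∧ μ ^ n = 1 ∧ ∀ v, k (A v) = μ • A (k v))
    (i s : Fin n) (hs : s ≠ i) : b.repr (k (b i)) s = 0 := by
  classical
  have hk0 : k 0 = 0 := by
    have := hadd 0 0
    rw [add_zero] at this
    simpa using this
  have hc0 : ∀ i, c i ≠ 0 := by
    intro i h
    have := hct i
    rw [h, zero_pow ht.ne_zero] at this
    exact zero_ne_one this
  obtain ⟨j, hj⟩ := exists_notMem (S := ({i, s} : Finset (Fin n)))
    (lt_of_le_of_lt Finset.card_le_two (by omega))
  simp only [Finset.mem_insert, Finset.mem_singleton, not_or] at hj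
  obtain ⟨A, μ, hAi, hAj, hAl, hμ, hkA⟩ := hz i j (Ne.symm hj.1)
  let d : Fin n → F := fun l => if l = i then c i else if l = j then (c i)⁻¹ else 1
  have hd : ∀ l, A (b l) = d l • b l := by
    intro l
    by_cases h1 : l = i
    · subst h1
      rw [hAi]
      simp [d]
    · by_cases h2 : l = j
      · subst h2
        rw [hAj]
        simp [d, h1]
      · rw [hAl l h1 h2]
        simp [d, h1, h2]
  have hrep := repr_diag b hd
  have hdi : d i = c i := by simp [d]
  have hdj : d j = (c i)⁻¹ := by simp [d, hj.1]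
  have hdl : ∀ l, l ≠ i → l ≠ j → d l = 1 := fun l h1 h2 => by simp [d, h1, h2]
  have hμ1 : μ = 1 := by
    by_contra hne
    -- the images of the other lines
    have hu : ∀ l, l ≠ i → l ≠ j → ∀ r, μ * (d r * b.repr (k (b l)) r) = b.repr (k (b l)) r := by
      intro l h1 h2 r
      have h3 := hkA (b l)
      rw [hAl l h1 h2] at h3
      have h4 := congrArg (fun x => b.repr x r) h3
      simp only [map_smul, Finsupp.smul_apply, smul_eq_mul] at h4
      rw [hrep] at h4
      exact h4.symm
    have hu0 : ∀ l, l ≠ i → l ≠ j → ∀ r, r ≠ i → r ≠ j → b.repr (k (b l)) r = 0 := by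
      intro l h1 h2 r h3 h4
      have h5 := hu l h1 h2 r
      rw [hdl r h3 h4, one_mul] at h5
      by_contra h6
      exact hne (mul_right_cancel₀ h6 (by rw [h5, one_mul]))
    have hne0 : ∀ l, k (b l) ≠ 0 := by
      intro l h
      exact b.ne_zero l (hinj (by rw [h, hk0]))
    -- `μ` is `c i` or its inverse
    have hcase : ∀ l, l ≠ i → l ≠ j →
        (μ * c i = 1 ∧ k (b l) = b.repr (k (b l)) i • b i ∧ b.repr (k (b l)) i ≠ 0) ∨
        (μ * (c i)⁻¹ = 1 ∧ k (b l) = b.repr (k (b l)) j • b j ∧ b.repr (k (b l)) j ≠ 0) := by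
      intro l h1 h2
      have hij : μ * c i = 1 → μ * (c i)⁻¹ = 1 → False := by
        intro h3 h4
        refine sq_ne_one ht ht2 (hc1 i) (hct i) ?_
        have h5 : μ = c i := by
          have := congrArg (fun x => x * c i) h4
          simpa [mul_assoc, inv_mul_cancel₀ (hc0 i)] using this
        rw [h5] at h3
        exact h3
      have hsum := b.sum_repr (k (b l))
      by_cases h3 : b.repr (k (b l)) i = 0
      · right
        have h4 : k (b l) = b.repr (k (b l)) j • b j := by
          conv_lhs => rw [← hsum]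
          refine Finset.sum_eq_single j (fun r _ hr => ?_) (fun h => absurd (Finset.mem_univ j) h)
          by_cases hri : r = i
          · rw [hri, h3, zero_smul]
          · rw [hu0 l h1 h2 r hri hr, zero_smul]
        have h5 : b.repr (k (b l)) j ≠ 0 := by
          intro h5
          rw [h5, zero_smul] at h4
          exact hne0 l h4
        refine ⟨?_, h4, h5⟩
        have h6 := hu l h1 h2 j
        rw [hdj, ← mul_assoc] at h6
        exact mul_right_cancel₀ h5 (by rw [h6, one_mul])
      · left
        have h6 := hu l h1 h2 i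
        rw [hdi, ← mul_assoc] at h6
        have h7 : μ * c i = 1 := mul_right_cancel₀ h3 (by rw [h6, one_mul])
        have h8 : b.repr (k (b l)) j = 0 := by
          by_contra h8
          have h9 := hu l h1 h2 j
          rw [hdj, ← mul_assoc] at h9
          exact hij h7 (mul_right_cancel₀ h8 (by rw [h9, one_mul]))
        refine ⟨h7, ?_, h3⟩
        conv_lhs => rw [← hsum]
        refine Finset.sum_eq_single i (fun r _ hr => ?_) (fun h => absurd (Finset.mem_univ i) h)
        by_cases hrj : r = j
        · rw [hrj, h8, zero_smul]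
        · rw [hu0 l h1 h2 r hr hrj, zero_smul]
    obtain ⟨l, hl⟩ := exists_notMem (S := ({i, j} : Finset (Fin n)))
      (lt_of_le_of_lt Finset.card_le_two (by omega))
    simp only [Finset.mem_insert, Finset.mem_singleton, not_or] at hl
    have hμt : μ ^ t = 1 := by
      rcases hcase l hl.1 hl.2 with ⟨h1, -, -⟩ | ⟨h1, -, -⟩
      · have := congrArg (fun x => x ^ t) h1
        simp only [mul_pow, hct, mul_one, one_pow] at this
        exact this
      · have := congrArg (fun x => x ^ t) h1
        simp only [mul_pow, inv_pow, hct, inv_one, mul_one, one_pow] at this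
        exact this
    have htn : t ∣ n := by
      have h1 : orderOf μ = t := by
        have : Fact t.Prime := ⟨ht⟩
        exact orderOf_eq_prime hμt hne
      rw [← h1]
      exact orderOf_dvd_of_pow_eq_one hμ
    by_cases h3 : n = 3
    · apply hexc
      refine ⟨h3, ?_⟩
      rw [h3] at htn
      exact (Nat.prime_dvd_prime_iff_eq ht Nat.prime_three).1 htn
    · obtain ⟨l', hl'⟩ := exists_notMem (S := ({i, j, l} : Finset (Fin n)))
        (lt_of_le_of_lt Finset.card_le_three (by omega))
      simp only [Finset.mem_insert, Finset.mem_singleton, not_or] at hl'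
      have hfin : ∀ (x y : F) (w : V), x ≠ 0 → y ≠ 0 → k (b l) = x • w → k (b l') = y • w → False := by
        intro x y w hx hy h1 h2
        have h4 : k (σ.symm y • b l) = k (σ.symm x • b l') := by
          rw [hsm, hsm, σ.apply_symm_apply, σ.apply_symm_apply, h1, h2, smul_smul, smul_smul, mul_comm]
        have h5 := hinj h4
        have h6 := congrArg (fun v => b.repr v l) h5
        simp only [map_smul, Finsupp.smul_apply, Basis.repr_self, smul_eq_mul, Finsupp.single_eq_same,
          mul_one] at h6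
        rw [Finsupp.single_apply, if_neg hl'.2.2, mul_zero] at h6
        apply hy
        have h7 := congrArg σ h6
        rwa [σ.apply_symm_apply, map_zero] at h7
      have hij : μ * c i = 1 → μ * (c i)⁻¹ = 1 → False := by
        intro h3 h4
        refine sq_ne_one ht ht2 (hc1 i) (hct i) ?_
        have h5 : μ = c i := by
          have := congrArg (fun x => x * c i) h4
          simpa [mul_assoc, inv_mul_cancel₀ (hc0 i)] using this
        rw [h5] at h3
        exact h3
      rcases hcase l hl.1 hl.2 with ⟨h1, h2, h2'⟩ | ⟨h1, h2, h2'⟩ <;>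
      rcases hcase l' hl'.1 hl'.2.1 with ⟨h4, h5, h5'⟩ | ⟨h4, h5, h5'⟩
      · exact hfin _ _ _ h2' h5' h2 h5
      · exact hij h1 h4
      · exact hij h4 h1
      · exact hfin _ _ _ h2' h5' h2 h5
  -- the conclusion
  have h1 := hkA (b i)
  rw [hAi, hsm, hμ1, one_smul] at h1
  have h2 := congrArg (fun x => b.repr x s) h1
  simp only [map_smul, Finsupp.smul_apply, smul_eq_mul] at h2
  rw [hrep, hdl s hs (Ne.symm hj.2), one_mul] at h2
  by_contra h3
  have h4 : σ (c i) = 1 := mul_right_cancel₀ h3 (by rw [h2, one_mul])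
  exact hc1 i (σ.injective (by rw [h4, map_one]))

end

section main

variable {F : Type} [Field F] [Fintype F] {n : ℕ}

theorem rg_apply (g : (Matrix (Fin n) (Fin n) F)ˣ) (v : Fin n → F) : rg F n g v = g.1 *ᵥ v := rfl

theorem det_toLin (g : (Matrix (Fin n) (Fin n) F)ˣ) : LinearMap.det (rg F n g) = g.1.det := by
  have h : rg F n g = Matrix.toLin' g.1 := by
    apply LinearMap.ext
    intro v
    rw [rg_apply, Matrix.toLin'_apply]
  rw [h, LinearMap.det_toLin']

/-- an element of `P'` of determinant one commutes with `k` up to a scalar -/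
theorem scalar_of_mem {π : Set ℕ} {P : Subgroup (ProjectiveSpecialLinearGroup (Fin n) F)}
    {P' : Subgroup (Matrix (Fin n) (Fin n) F)ˣ} (hL : Lift π P P') {k : Equiv.Perm (Fin n → F)}
    (hk : k ∈ GamL F n) {α : MulAut (ProjectiveSpecialLinearGroup (Fin n) F)} (hi : Ind k α)
    (hα : ∀ x ∈ P, α x = x) {z : (Matrix (Fin n) (Fin n) F)ˣ} (hz : z ∈ P') (hdet : z.1.det = 1) :
    ∃ μ : F, μ ^ n = 1 ∧ ∀ v, k (rg F n z v) = μ • rg F n z (k v) := by
  have h1 : toU (⟨z.1, hdet⟩ : SpecialLinearGroup (Fin n) F) = z := Units.ext rfl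
  have h2 := hL.down ⟨z.1, hdet⟩ (by rw [h1]; exact hz)
  exact conj_scalar hk hi (hα _ h2)

theorem st_cen : StCen := by
  classical
  intro π p F _ _ _ n P P' t m f hp hpπ hn hL hF k α hk hi hα
  obtain ⟨hdim, hV0, -, hdec, hfix⟩ := Cfsg.Agent.H199.DPL.st_dec π p F n P' t m f hp hpπ hF
  have hadd := hk.1
  obtain ⟨σ, hσ⟩ := hk.2
  have hk0 : k 0 = 0 := by
    have := hadd 0 0
    rw [add_zero] at this
    simpa using this
  have hneg : ∀ v, k (-v) = - k v := by
    intro v
    have h1 := hadd v (-v)
    rw [add_neg_cancel, hk0] at h1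
    exact (neg_eq_of_add_eq_zero_right h1.symm).symm
  have hsub : ∀ v w, k (v - w) = k v - k w := fun v w => by
    rw [sub_eq_add_neg, hadd, hneg, sub_eq_add_neg]
  have hq0 : Fintype.card F ≠ 0 := Fintype.card_ne_zero
  have ht := hF.prime
  by_cases he : 2 ≤ eo F t
  · -- the elements of the frame have determinant one
    have hcop : Nat.Coprime t (Fintype.card F - 1) := by
      rw [Nat.Prime.coprime_iff_not_dvd ht]
      intro h
      have h1 : (Fintype.card F : ZMod t) = 1 := by
        have h2 : ((Fintype.card F - 1 : ℕ) : ZMod t) = 0 := (ZMod.natCast_eq_zero_iff _ _).2 h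
        rw [Nat.cast_sub (Nat.one_le_iff_ne_zero.2 hq0), Nat.cast_one, sub_eq_zero] at h2
        exact h2
      have h3 : eo F t = 1 := orderOf_eq_one_iff.2 h1
      omega
    have hone : ∀ c : F, c ^ t = 1 → c = 1 := by
      intro c hc
      have hc0 : c ≠ 0 := by
        intro h
        rw [h, zero_pow ht.ne_zero] at hc
        exact zero_ne_one hc
      have h1 : c ^ (Fintype.card F - 1) = 1 := FiniteField.pow_card_sub_one_eq_one c hc0
      have h2 : orderOf c ∣ Nat.gcd t (Fintype.card F - 1) :=
        Nat.dvd_gcd (orderOf_dvd_of_pow_eq_one hc) (orderOf_dvd_of_pow_eq_one h1)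
      rw [hcop] at h2
      exact orderOf_eq_one_iff.1 (Nat.dvd_one.1 h2)
    have hcomm : ∀ i v, k (rg F n (f i) v) = rg F n (f i) (k v) := by
      intro i v
      have hft : f i ^ t = 1 := (hF.fm.isZ i).1
      have hdet : (f i).1.det = 1 := by
        apply hone
        rw [← Matrix.det_pow, ← Units.val_pow_eq_pow_val, hft]
        simp
      obtain ⟨μ, -, h1⟩ := scalar_of_mem hL hk hi hα (hF.fm.mem i) hdet
      have hμ : μ = 1 := by
        apply hone
        -- a nonzero vector
        let v₀ : Fin n → F := fun _ => 1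
        have hv₀ : v₀ ≠ 0 := by
          intro h
          have := congrFun h ⟨0, by omega⟩
          exact one_ne_zero this
        have h2 := pow_scalar h1 t v₀
        rw [← map_pow, hft, map_one] at h2
        have h3 : k v₀ = μ ^ t • k v₀ := h2
        have h4 : (μ ^ t - 1) • k v₀ = 0 := by rw [sub_smul, one_smul, ← h3, sub_self]
        rcases smul_eq_zero.1 h4 with h5 | h5
        · exact sub_eq_zero.1 h5
        · exact absurd (k.injective (by rw [h5, hk0])) hv₀
      rw [h1, hμ, one_smul]
    refine ⟨?_, ?_, fun _ => hcomm⟩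
    · intro i w hw
      obtain ⟨v, rfl⟩ := mem_Rg.1 hw
      rw [hsub, hcomm]
      exact sub_mem_Rg (f i) (k v)
    · intro v hv
      unfold V0 at hv ⊢
      rw [Submodule.mem_iInf] at hv ⊢
      intro i
      have h1 := hv i
      rw [LinearMap.mem_ker, LinearMap.sub_apply, Module.End.one_apply, sub_eq_zero] at h1 ⊢
      rw [← hcomm, h1]
  · -- `e t = 1`
    have he1 : eo F t = 1 := by omega
    have hV00 : finrank F (V0 f) = 0 := by omega
    have hV0b : V0 f = ⊥ := Submodule.finrank_eq_zero.1 hV00
    have hmn : m = n := by rw [hV00, he1] at hdim; omega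
    subst hmn
    have ht2 : t ≠ 2 := by
      have := hF.gen
      omega
    have hrk : ∀ i, finrank F (Rg (rg F m) (f i)) = 1 := fun i => by
      rw [finrank_Rg, (hF.fm.isZ i).2, he1]
    have hex : ∀ i, ∃ w ∈ Rg (rg F m) (f i), w ≠ 0 ∧ ∀ v ∈ Rg (rg F m) (f i), ∃ c : F, v = c • w := by
      intro i
      obtain ⟨w, hw0, hw⟩ := finrank_eq_one_iff'.1 (hrk i)
      refine ⟨w, w.2, fun h => hw0 (Subtype.ext h), fun v hv => ?_⟩
      obtain ⟨c, hc⟩ := hw ⟨v, hv⟩
      exact ⟨c, (congrArg Subtype.val hc).symm⟩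
    choose w hw hw0 hwm using hex
    -- the basis
    have hspan : ⊤ ≤ Submodule.span F (Set.range w) := by
      intro v _
      obtain ⟨v0, hv0, u, hu, hv⟩ := hdec v
      rw [hV0b, Submodule.mem_bot] at hv0
      rw [hv, hv0, zero_add]
      refine Submodule.sum_mem _ fun i _ => ?_
      obtain ⟨c, hc⟩ := hwm i (u i) (hu i)
      rw [hc]
      exact Submodule.smul_mem _ _ (Submodule.subset_span ⟨i, rfl⟩)
    let b : Basis (Fin m) F (Fin m → F) := basisOfTopLeSpanOfCardEqFinrank w hspan (by simp)
    have hb : ∀ i, b i = w i := fun i => by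
      simp [b]
    -- the eigenvalues
    have hev : ∀ i, ∃ c : F, rg F m (f i) (w i) = c • w i := fun i => hwm i _ (map_Rg (hw i))
    choose c hc using hev
    have hother : ∀ i l, l ≠ i → rg F m (f i) (w l) = w l := by
      intro i l hl
      obtain ⟨v, hv⟩ := mem_Rg.1 (hw l)
      rw [← hv]
      exact hF.fm.ind i l (Ne.symm hl) v
    have hc1 : ∀ i, c i ≠ 1 := by
      intro i h
      refine hw0 i (hfix i (w i) (hw i) ?_)
      rw [hc, h, one_smul]
    have hpow : ∀ i (j : ℕ), rg F m (f i ^ j) (w i) = c i ^ j • w i := by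
      intro i j
      induction j with
      | zero => rw [pow_zero, one_ap, pow_zero, one_smul]
      | succ j ih => rw [pow_succ', mul_ap, ih, map_smul, hc, smul_smul, pow_succ]
    have hpow' : ∀ i l (j : ℕ), l ≠ i → rg F m (f i ^ j) (w l) = w l := by
      intro i l j hl
      induction j with
      | zero => rw [pow_zero, one_ap]
      | succ j ih => rw [pow_succ', mul_ap, ih, hother i l hl]
    have hct : ∀ i, c i ^ t = 1 := by
      intro i
      have h1 := hpow i t
      rw [(hF.fm.isZ i).1, one_ap] at h1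
      have h2 : (c i ^ t - 1) • w i = 0 := by rw [sub_smul, one_smul, ← h1, sub_self]
      rcases smul_eq_zero.1 h2 with h3 | h3
      · exact sub_eq_zero.1 h3
      · exact absurd h3 (hw0 i)
    have hz : ∀ i j, i ≠ j → ∃ (A : (Fin m → F) →ₗ[F] (Fin m → F)) (μ : F), A (b i) = c i • b i ∧
        A (b j) = (c i)⁻¹ • b j ∧ (∀ l, l ≠ i → l ≠ j → A (b l) = b l) ∧ μ ^ m = 1 ∧
        ∀ v, k (A v) = μ • A (k v) := by
      intro i j hij
      have hprim : IsPrimitiveRoot (c j) t := by
        have : Fact t.Prime := ⟨ht⟩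
        rw [IsPrimitiveRoot.iff_orderOf]
        exact orderOf_eq_prime (hct j) (hc1 j)
      have : NeZero t := ⟨ht.ne_zero⟩
      obtain ⟨e, -, he'⟩ := hprim.eq_pow_of_pow_eq_one (ξ := (c i)⁻¹) (by rw [inv_pow, hct, inv_one])
      have hci0 : c i ≠ 0 := by
        intro h
        have := hct i
        rw [h, zero_pow ht.ne_zero] at this
        exact zero_ne_one this
      have hAi : rg F m (f i * f j ^ e) (b i) = c i • b i := by
        rw [hb, mul_ap, hpow' j i e hij, hc]
      have hAj : rg F m (f i * f j ^ e) (b j) = (c i)⁻¹ • b j := by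
        rw [hb, mul_ap, hpow, he', map_smul, hother i j hij.symm]
      have hAl : ∀ l, l ≠ i → l ≠ j → rg F m (f i * f j ^ e) (b l) = b l := by
        intro l h1 h2
        rw [hb, mul_ap, hpow' j l e h2, hother i l h1]
      have hdet : (f i * f j ^ e).1.det = 1 := by
        rw [← det_toLin, ← LinearMap.det_toMatrix b]
        let d : Fin m → F := fun l => if l = i then c i else if l = j then (c i)⁻¹ else 1
        have h1 : LinearMap.toMatrix b b (rg F m (f i * f j ^ e)) = Matrix.diagonal d := by
          ext r l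
          rw [LinearMap.toMatrix_apply, Matrix.diagonal_apply]
          have h2 : rg F m (f i * f j ^ e) (b l) = d l • b l := by
            by_cases h1 : l = i
            · subst h1
              rw [hAi]
              simp [d]
            · by_cases h2 : l = j
              · subst h2
                rw [hAj]
                simp [d, h1]
              · rw [hAl l h1 h2]
                simp [d, h1, h2]
          rw [h2, map_smul, Finsupp.smul_apply, Basis.repr_self, Finsupp.single_apply, smul_eq_mul]
          by_cases h3 : l = r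
          · subst h3
            simp
          · rw [if_neg h3, if_neg (Ne.symm h3), mul_zero]
        rw [h1, Matrix.det_diagonal, Finset.prod_eq_mul i j hij]
        · simp [d, hij.symm, hci0]
        · intro r _ hr
          simp [d, hr.1, hr.2]
        · intro h
          exact absurd (Finset.mem_univ _) h
        · intro h
          exact absurd (Finset.mem_univ _) h
      obtain ⟨μ, h1, h2⟩ := scalar_of_mem hL hk hi hα
        (P'.mul_mem (hF.fm.mem i) (P'.pow_mem (hF.fm.mem j) e)) hdet
      exact ⟨_, μ, hAi, hAj, hAl, h1, h2⟩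
    have hmain := frame_fixed k.injective hadd hσ b hn ht ht2 hF.exc hc1 hct hz
    refine ⟨?_, ?_, fun h => absurd h he⟩
    · intro i v hv
      obtain ⟨a, ha⟩ := hwm i v hv
      rw [ha, hσ, ← hb]
      refine Submodule.smul_mem _ _ ?_
      have h1 := b.sum_repr (k (b i))
      rw [Finset.sum_eq_single i (fun s _ hs => by rw [hmain i s hs, zero_smul])
        (fun h => absurd (Finset.mem_univ i) h)] at h1
      rw [← h1]
      refine Submodule.smul_mem _ _ ?_
      rw [hb]
      exact hw i
    · intro v hv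
      rw [hV0b, Submodule.mem_bot] at hv ⊢
      rw [hv, hk0]

end main

end Cfsg.Agent.H990.DPL
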